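import Cfsg.Agent.NO6.BigA
import Cfsg.Agent.NO6.Ess

/-! The case `S` Sylow in `G`, and the reduction of the other case to `|T : S| = 2`. -/

set_option autoImplicit false

namespace Cfsg.Agent.NO6

open Cfsg Cfsg.Agent.H49 Cfsg.Agent.GOLD Cfsg.Agent.R2 Subgroup

universe u

variable {G : Type u} [Group G] [Finite G]

variable {Q S T B E : Subgroup G}

theorem Big.eq_case [IsSimpleGroup G] (hG : ¬ IsMulCommutative G) (h : Big Q S)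
    (hS : IsSylowOf 2 S ⊤) : Concl G := by
  have fin : ∀ B : Subgroup G, B ≤ S → (∀ b ∈ B, b * b = 1) → ¬ B ≤ Q →
      Nat.card Q ≤ Nat.card B → Concl G := fun B h1 h2 h3 h4 =>
    let ⟨t, _, e⟩ := h.two_of hS h1 h2 h3 h4
    concl_of_two hG h.no6 t h.four e
  by_cases hn : 𝒩(S) ≤ 𝒩(Q)
  swap
  · obtain ⟨n, hn, hn'⟩ := SetLike.not_le_iff_exists.1 hn
    refine fin (cj n Q) (cj_le_of_mem_norm h.le hn) (fun b hb => ?_)
      (fun hle => hn' (mem_norm_of_cj_le hle)) (card_cj n Q).ge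
    obtain ⟨y, hy, rfl⟩ := mem_cj'.1 hb
    exact conj_sq (h.sq y hy) n
  by_cases sc : ∀ x ∈ Q, ∀ g : G, g * x * g⁻¹ ∈ S → g * x * g⁻¹ ∈ Q
  · exact concl_of_sc hG h.no6 hS h.le h.ne (ea_of_sq h.sq).1 sc
  push Not at sc
  obtain ⟨x, hx, g, h1, h2⟩ := sc
  obtain ⟨E, y, b, hE, -, hb, hb', -, -⟩ :=
    fus_ind hS h.le hn (g := g⁻¹) h1 h2 (by simpa [mul_assoc] using hx)
  have hZ : Q ⊓ 𝒞(S) ≤ E := fun z hz => hE.cen ⟨h.le hz.1, cent_anti hE.le hz.2⟩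
  by_cases hA : E ⊓ Q ≤ Q ⊓ 𝒞(S)
  swap
  · obtain ⟨a, ha, ha'⟩ := SetLike.not_le_iff_exists.1 hA
    obtain ⟨r, hr, hr'⟩ := SetLike.exists_of_lt hE.lt
    have hV : E ⊓ 𝒞(E) ≤ Q ⊓ 𝒞(S) := fun v hv => by
      by_cases hv' : v ∈ Q
      · exact h.memZ (hE.le hb) hb' hv' (hv.2 b hb).symm
      · exact (ha' (h.memZ (hE.le hv.1) hv' ha.2 (hv.2 a ha.1))).elim
    refine (hE.stab inf_le_left (norm_inf le_rfl (norm_cent le_rfl)) hr.1 hr'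
      (fun v hv => (Big.cZ (hV hv) hr.1).symm) fun e he => ?_).elim
    have := h.commZ hr.1 (hE.le he)
    exact ⟨hZ this, cent_anti hE.le this.2⟩
  have hN : S ≤ 𝒩(E) := le_norm_iff.2 fun s hs e he => by
    have := mul_mem (hZ (h.commZ hs (hE.le he))) he
    rwa [inv_mul_cancel_right] at this
  have i4 : 4 ≤ E.relIndex (S ⊓ 𝒩(E)) := by
    rw [inf_eq_left.2 hN]
    refine h.four_Z.trans (h.relIndex_Z.ge.trans (le_trans ?_
      (relIndex_le_of_le_right h.le (relIndex_pos E S).ne')))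
    rw [← inf_relIndex_right E Q]
    exact relIndex_le_of_le_left hA (relIndex_pos _ _).ne'
  obtain ⟨r, hr, hr'⟩ := h.exists_nZ
  obtain ⟨g, hg, w, hw, h3⟩ := hE.se3 (fun r hr => hZ (h.sqZ hr.1)) i4 r
    ⟨h.le hr, hN (h.le hr)⟩ fun hrE => hr' (hA ⟨hrE, hr⟩)
  have k := h.kill (h.le hr) hw h3
  have hZ' : cj g (Q ⊓ 𝒞(S)) ≤ E := cj_le_of_mem_norm hZ hg
  have hc : cj g (Q ⊓ 𝒞(S)) ≤ 𝒩(Q ⊓ 𝒞(S)) :=
    norm_of_cent (cent_symm (inf_le_right.trans (cent_anti (hZ'.trans hE.le))))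
  refine fin (Q ⊓ 𝒞(S) ⊔ cj g (Q ⊓ 𝒞(S))) ((sup_le hZ hZ').trans hE.le) (fun b hb => ?_)
    (fun hle => ?_) ?_
  · obtain ⟨z, hz, c, hc', rfl⟩ := (mem_sup_of_norm_left hc).1 hb
    have e := Big.cZ hz (hE.le (hZ' hc'))
    obtain ⟨y, hy, rfl⟩ := mem_cj'.1 hc'
    calc _ = z * (g * y * g⁻¹ * z) * (g * y * g⁻¹) := by group
      _ = z * z * (g * y * g⁻¹ * (g * y * g⁻¹)) := by rw [e]; group
      _ = 1 := by rw [h.sq z hz.1, conj_sq (h.sq y hy.1), one_mul]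
  · have e : cj g (Q ⊓ 𝒞(S)) ≤ ⊥ :=
      k ▸ le_inf ((le_inf hZ' (le_sup_right.trans hle)).trans hA) le_rfl
    have := h.four_Z
    rw [cj_eq_bot_iff.1 (eq_bot_iff.2 e), card_bot] at this
    omega
  · rw [card_sup_of_disjoint (Or.inr hc) k, card_cj, h.card_Q]

/-- `S = A B` has index two in the 2-group `T`, whose other elements swap `A` and `B`. -/
structure Sw (Q S T B : Subgroup G) : Prop extends Big Q S where
  twoT : IsPGroup 2 T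
  le' : S ≤ T
  idx : S.relIndex T = 2
  two' : Two S S Q B
  inf : Q ⊓ B = Q ⊓ 𝒞(S)
  swap : ∀ v ∈ T, v ∉ S → cj v Q = B ∧ cj v B = Q

namespace Sw

variable (h : Sw Q S T B)
include h

theorem fix {s v : G} (hs : s ∈ S) (h2 : s * s = 1) (hv : v ∈ T) (hv' : v ∉ S)
    (hc : v * s = s * v) : s ∈ Q ⊓ 𝒞(S) := by
  have e : v * s * v⁻¹ = s := by rw [hc]; group
  obtain ⟨e1, e2⟩ := h.swap v hv hv'
  rw [← h.inf]
  rcases h.two'.inv s hs h2 with k | k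
  · exact ⟨k, e1 ▸ e ▸ conj_mem_cj.2 k⟩
  · exact ⟨e2 ▸ e ▸ conj_mem_cj.2 k, k⟩

theorem normZ : T ≤ 𝒩(Q ⊓ 𝒞(S)) := fun v hv => by
  by_cases hv' : v ∈ S
  · exact norm_inf h.norm (norm_cent le_normalizer) hv'
  · obtain ⟨e1, e2⟩ := h.swap v hv hv'
    rw [mem_norm_iff_cj, ← h.inf, cj_inf, e1, e2, inf_comm]

theorem normS : T ≤ 𝒩(S) := fun v hv => by
  by_cases hv' : v ∈ S
  · exact le_normalizer hv'
  · obtain ⟨e1, e2⟩ := h.swap v hv hv'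
    rw [mem_norm_iff_cj, ← h.two'.sup, cj_sup, e1, e2, sup_comm]

theorem memZ' {a v : G} (ha : a ∈ Q) (hv : v ∈ T) (hv' : v ∉ S)
    (hc : v * a * v⁻¹ * a⁻¹ ∈ Q ⊓ 𝒞(S)) : a ∈ Q ⊓ 𝒞(S) := by
  have h1 : v * a * v⁻¹ ∈ Q ⊓ 𝒞(S) := by
    rw [← h.inf]
    exact ⟨(mul_mem_cancel_right (inv_mem ha)).1 hc.1, (h.swap v hv hv').1 ▸ conj_mem_cj.2 ha⟩
  exact inv_mem_iff.1 ((mul_mem_cancel_left h1).1 hc)

theorem cj_le {n : G} (hn : cj n Q ≤ T) : cj n Q ≤ S := by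
  by_contra hle
  obtain ⟨v, hv, hv'⟩ := SetLike.not_le_iff_exists.1 hle
  have sq : ∀ b ∈ cj n Q, b * b = 1 := fun b hb => by
    obtain ⟨y, hy, rfl⟩ := mem_cj'.1 hb
    exact conj_sq (h.sq y hy) n
  have h1 := card_le_two_mul h.idx hn (H := Q ⊓ 𝒞(S)) fun s hs =>
    h.fix hs.2 (sq s hs.1) (hn hv) hv' (comm_of_sq' sq hv hs.1)
  have h2 : Nat.card ↥(cj n Q ⊓ (Q ⊓ 𝒞(S))) ≤ _ := card_le_of_le inf_le_right
  have h3 := h.four_Z
  rw [card_cj, h.card_Q] at h1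
  nlinarith

theorem nrm (hlt : S < T) : 𝒩(T) ≤ 𝒩(S) := fun n hn => by
  obtain ⟨x, hx, hx'⟩ := SetLike.exists_of_lt hlt
  have hQ : Q ≤ T := h.le.trans h.le'
  refine mem_norm_of_cj_le ?_
  conv_lhs => rw [← h.two'.sup, cj_sup, ← (h.swap x hx hx').1, cj_cj]
  exact sup_le (h.cj_le (cj_le_of_mem_norm hQ hn))
    (h.cj_le (cj_le_of_mem_norm hQ (mul_mem hn (le_normalizer hx))))

end Sw

theorem Big.exists_sw (h : Big Q S) (hT : IsPGroup 2 T) (hS : S < T) : ∃ B, Sw Q S T B := by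
  have nil := (isPi_of_isPGroup pr2 hT).nilpotent
  have lt := lt_inf_norm_of_nilpotent nil hS
  obtain ⟨x, hx, hx'⟩ := SetLike.exists_of_lt lt
  have k : ∀ v ∈ T, cj v Q = Q → v ∈ S := fun v hv e =>
    h.eq_inf hT hS.le ▸ ⟨hv, mem_norm_iff_cj.2 e⟩
  obtain ⟨t, e, -⟩ := h.two_of (B := cj x Q) (hall_self h.syl.pi) (cj_le_of_mem_norm h.le hx.2)
    (fun b hb => by
      obtain ⟨y, hy, rfl⟩ := mem_cj'.1 hb
      exact conj_sq (h.sq y hy) x)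
    (fun hle => hx' (k x hx.1 (cj_eq_of_mem_norm (mem_norm_of_cj_le hle)))) (card_cj x Q).ge
  have sw : ∀ v ∈ T ⊓ 𝒩(S), v ∉ S → cj v Q = cj x Q ∧ cj v (cj x Q) = Q := fun v hv hv' => by
    have e1 := (t.cj_or hv.2).resolve_left fun e => hv' (k v hv.1 e)
    refine ⟨e1, (t.symm.cj_or hv.2).resolve_left fun e => t.nBA ?_⟩
    exact (cj_inj.1 (e.trans e1.symm)).le
  have s1 : Sw Q S (T ⊓ 𝒩(S)) (cj x Q) := by
    refine ⟨h, hT.to_le inf_le_left, lt.le, relIndex_eq_two_of hx hx' fun v hv => ?_, t, e, sw⟩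
    by_cases hv' : v ∈ S
    · exact Or.inl hv'
    · refine Or.inr (k _ (mul_mem (inv_mem hx.1) hv.1) ?_)
      rw [cj_mul, (sw v hv hv').1, cj_inv_cj]
  have e2 := eq_of_inf_norm_le_of_nilpotent nil (inf_le_left : T ⊓ 𝒩(S) ≤ T)
    (inf_le_inf_left _ (s1.nrm lt))
  exact ⟨_, e2 ▸ s1⟩

end Cfsg.Agent.NO6
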