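import Cfsg.Agent.NO6.Ess
import Cfsg.Agent.NO6.Four
import Cfsg.Agent.NO6.Fp
import Cfsg.Agent.S0111

/-!
The case `|S : Q| = 2`.
-/

set_option autoImplicit false
set_option linter.unusedSectionVars false

namespace Cfsg.Agent.NO6

open Cfsg Cfsg.Agent.H49 Subgroup

universe u

variable {G : Type u} [Group G] [Finite G]

variable {Q S T E : Subgroup G}

theorem simple_index_ne_two [IsSimpleGroup G] (hG : ¬ IsMulCommutative G) (M : Subgroup G) :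
    M.index ≠ 2 := fun h => by
  rcases (normal_of_index_eq_two h).eq_bot_or_eq_top with e | e
  · rw [e, index_bot] at h
    have := Fact.mk pr2
    exact hG (isCyclic_of_prime_card h).isMulCommutative
  · rw [e, index_top] at h
    omega

/-- a fixed point of `s` in an elementary abelian group is a trace -/
theorem FT.trace {s y w : G} {D : Subgroup G} (h : FT s y D) (hw : w ∈ D) (h2 : w * w = 1)
    (hc : s * w * s⁻¹ = w) : w = y * w * y⁻¹ * (s * (y * w * y⁻¹) * s⁻¹) := by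
  have h1 := h.prod hw
  have e : s * (y * w * y⁻¹) * s⁻¹ = y⁻¹ * w * y := by
    calc _ = (s * y * s⁻¹) * (s * w * s⁻¹) * (s * y * s⁻¹)⁻¹ := by group
      _ = _ := by rw [h.sinv, hc, inv_inv]
  rw [e, ← inv_eq_of_sq h2]
  exact inv_eq_of_mul_eq_one_right (by rw [inv_eq_of_sq h2, ← mul_assoc, h1])

section core

variable (h : Loc Q S) (h2 : Q.relIndex S = 2) (e : Ed S Q E)
include h h2 e

theorem two_idx {t : G} (ht : t ∈ E) (ht' : t ∉ Q) : Q.relIndex E = 2 :=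
  relIndex_eq_two_of ht ht' fun a ha => (em (a ∈ Q)).imp_right fun ha' =>
    inv_mul_mem_of_two h2 (e.le ht) (e.le ha) ht' ha'

theorem two_cj {g : G} (hg : g ∈ 𝒩(E)) : cj g (E ⊓ Q) = E ⊓ 𝒞(cj g (om Q)) := by
  have : E ⊓ Q = E ⊓ 𝒞(om Q) := by
    conv_lhs => rw [← h.cent_om, ← inf_assoc, inf_eq_left.2 e.le]
  rw [this, cj_inf, cj_eq_of_mem_norm hg, cj_centralizer]

/-- an element whose conjugates all centralize `Ω₁(Z(E))` -/
theorem two_r0 (hq : ¬ Nat.card Q ≤ 4) (hZ : Q ⊓ 𝒞(Q) ≤ E) {x t : G} (hx : x ∈ 𝒩(E)) (ht : t ∈ E)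
    (ht' : t ∉ Q) (t2 : t * t = 1) (hxt : x * t * x⁻¹ ∈ Q) : ∃ r ∈ Q, r ∈ 𝒩(E) ∧ r ∉ E ∧
      ∀ g ∈ 𝒩(E), ∀ w ∈ closure ({r, g * r * g⁻¹} : Set G), orderOf w ≠ 3 := by
  have hE := e.two.to_le e.le
  have hO : om Q ≤ E := (le_inf (om_le Q) (om_le_cent Q)).trans hZ
  have hV0 : om E ≠ ⊥ := om_ne_bot hE (ne_bot_iff_exists.2 ⟨t, ht, fun k => ht' (k ▸ one_mem _)⟩)
  have hV : om E ≤ Q := fun v hv => h.cent_om.le ⟨e.le hv.1, cent_anti hO hv.2.1⟩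
  have nV : 𝒩(E) ≤ 𝒩(𝒞(om E)) := norm_cent (norm_om E)
  have nD : E ≤ 𝒩(Q ⊓ 𝒞(om E)) := norm_inf (e.le.trans h.norm) (le_normalizer.trans nV)
  obtain ⟨y, k⟩ := h.ft' (e.le ht) ht' t2
  have kD : FT t y (Q ⊓ 𝒞(om E)) := k.of_le inf_le_left (k.norm_cent' hV) (nD ht)
  have hVD : om E ≤ Q ⊓ 𝒞(om E) := le_inf hV ((om_le E).trans (le_cent_om E))
  have hD : ¬ Q ⊓ 𝒞(om E) ≤ E := fun hD => by
    have e1 : Q ⊓ 𝒞(om E) = E ⊓ Q := le_antisymm (le_inf hD inf_le_left)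
      (le_inf inf_le_right (inf_le_left.trans (le_cent_om E)))
    have h4 := kD.swap (ne_bot_mono hVD hV0) hD ht
      (by rw [e1, inf_relIndex_left, two_idx h h2 e ht ht']) hx fun hn => ht' (by
        rw [e1] at hn
        simpa [mul_assoc] using
          (conj_mem_of_norm' le_rfl hn ⟨conj_mem_of_norm le_rfl hx ht, hxt⟩).2)
    have e2 : om Q = Q ⊓ 𝒞(om E) := eq_of_le_of_card_ge (e1 ▸ le_inf hO (om_le Q))
      (h4.trans (k.om.four_le (om_ne_bot h.two h.ne)))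
    have e3 : Q ≤ Q ⊓ 𝒞(om E) := le_inf le_rfl (cent_symm (hVD.trans (e2 ▸ om_le_cent Q)))
    exact hq ((card_le_of_le e3).trans h4)
  obtain ⟨r, hr, hr1, hr2⟩ := exists_norm_step kD.two hE nD hD
  refine ⟨r, hr.1, hr1, hr2, fun g hg w hw h3 => h.no6.not_cent (hE.to_le (om_le E)) hV0 h3
    ((closure_le _).2 ?_ hw)⟩
  rintro _ (rfl | rfl)
  · exact hr.2
  · exact conj_mem_of_norm nV hg hr.2

theorem two_core (hq : ¬ Nat.card Q ≤ 4) {x t₀ : G} (hx : x ∈ 𝒩(E)) (ht₀ : t₀ ∈ E)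
    (ht₀' : t₀ ∉ Q) (t₀2 : t₀ * t₀ = 1) (hxt : x * t₀ * x⁻¹ ∈ Q) :
    Nat.card E = 4 ∧ ∀ a ∈ E, a * a = 1 := by
  have i2 := two_idx h h2 e ht₀ ht₀'
  have hE := e.two.to_le e.le
  by_cases hZ : ¬ Q ⊓ 𝒞(Q) ≤ E
  · obtain ⟨r, hr, hr1, hr2⟩ := exists_norm_step (h.two.to_le inf_le_left) hE
      (e.le.trans (norm_inf h.norm (norm_cent h.norm))) hZ
    exact e.four h.no6 i2 ⟨h.le hr.1, hr1⟩ hr2 (cent_anti inf_le_right hr.2)
  exfalso
  rw [not_not] at hZ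
  have hO' : om Q ≤ Q ⊓ 𝒞(Q) := le_inf (om_le Q) (om_le_cent Q)
  have hO : om Q ≤ E := hO'.trans hZ
  obtain ⟨r₀, hr₀, hr1, hr2, hr3⟩ := two_r0 h h2 e hq hZ hx ht₀ ht₀' t₀2 hxt
  obtain ⟨y₀, k₀⟩ := h.ft' (e.le ht₀) ht₀' t₀2
  -- a conjugate of `Ω₁(Z(Q))` outside `Q`
  obtain ⟨γ, hγ, hγ'⟩ : ∃ γ ∈ 𝒩(E), ¬ cj γ (om Q) ≤ Q := by
    by_contra hall
    push Not at hall
    obtain ⟨g, hg, w, hw, h3⟩ := e.tv i2 ⟨h.le hr₀, hr1⟩ hr2 fun a ha g hg => by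
      have := k₀.class_two hr₀ ha.2
      rw [two_cj h h2 e hg]
      exact ⟨hZ this, cent_anti (hall g hg) this.2⟩
    exact hr3 g hg w hw h3
  obtain ⟨t, ht, ht'⟩ := SetLike.not_le_iff_exists.1 hγ'
  have htE : t ∈ E := cj_le_of_mem_norm hO hγ ht
  have t2 : t * t = 1 := (cj_om γ Q ▸ ht).2.2
  obtain ⟨y, k⟩ := h.ft' (e.le htE) ht' t2
  obtain ⟨K, hK⟩ : ∃ K, K = cj γ (E ⊓ Q) := ⟨_, rfl⟩
  have iK : K.relIndex E = 2 := by rw [hK, relIndex_cj_of_norm _ hγ, inf_relIndex_left, i2]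
  have hKE : K ≤ E := hK ▸ cj_le_of_mem_norm inf_le_left hγ
  have hKt : K ≤ 𝒞[t] := by
    rw [hK, two_cj h h2 e hγ]
    exact inf_le_right.trans (cent_le_cent1 ht)
  have c4 := k.ctr.card_le_four iK hZ (inf_le_right.trans hKt)
  have eZ : om Q = Q ⊓ 𝒞(Q) :=
    eq_of_le_of_card_ge hO' (c4.trans (k.om.four_le (om_ne_bot h.two h.ne)))
  have z2 : ∀ z ∈ Q ⊓ 𝒞(Q), z * z = 1 := fun z hz => (eZ.ge hz).2.2
  have hS : ∀ a ∈ S, a ∈ Q ∨ t⁻¹ * a ∈ Q := fun a ha => (em (a ∈ Q)).imp_right fun ha' =>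
    inv_mul_mem_of_two h2 (e.le htE) ha ht' ha'
  have z1 : ∀ z ∈ Q ⊓ 𝒞(Q), z ∈ 𝒞[t] → z ∈ 𝒞(S) := fun z hz hz' a ha => by
    rcases hS a ha with k' | k'
    · exact hz.2 a k'
    · have := Commute.mul_left (mem_cent1.1 hz').symm (hz.2 _ k')
      rwa [mul_inv_cancel_left] at this
  -- `C = C_Q(t)` lies in `E`
  obtain ⟨z, hz, hz'⟩ : ∃ z ∈ Q ⊓ 𝒞(Q), z ∉ 𝒞[t] := by
    by_contra hc
    push Not at hc
    exact k.ctr.not_cent (eZ ▸ om_ne_bot h.two h.ne) (le_cent1_iff.1 hc)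
  have dec : ∀ a ∈ E, ∃ u ∈ E ⊓ 𝒞(Q ⊓ 𝒞[t]), ∃ c ∈ Q ⊓ 𝒞[t], a = u * c := by
    have ht1 : t ∈ E ⊓ 𝒞(Q ⊓ 𝒞[t]) := ⟨htE, le_cent1_iff.1 inf_le_right⟩
    have d1 : ∀ a ∈ K, ∃ u ∈ E ⊓ 𝒞(Q ⊓ 𝒞[t]), ∃ c ∈ Q ⊓ 𝒞[t], a = u * c := fun a ha => by
      rcases hS a (e.le (hKE ha)) with k' | k'
      · exact ⟨1, one_mem _, a, ⟨k', hKt ha⟩, by simp⟩
      · exact ⟨t, ht1, _, ⟨k', Subgroup.mul_mem _ (Subgroup.inv_mem _ (self_mem_cent1 t)) (hKt ha)⟩, by simp⟩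
    intro a ha
    by_cases ha' : a ∈ K
    · exact d1 a ha'
    · obtain ⟨u, hu, c, hc, e'⟩ := d1 _ (inv_mul_mem_of_two iK (hZ hz) ha (fun k => hz' (hKt k)) ha')
      exact ⟨z * u, mul_mem ⟨hZ hz, cent_anti inf_le_left hz.2⟩ hu, c, hc, by
        rw [mul_assoc, ← e']; simp⟩
  have hC : Q ⊓ 𝒞[t] ≤ E := fun r hr => by_contra fun hr' => e.triv (h.le hr.1) hr' fun a ha g hg => by
    obtain ⟨u, hu, c, hc, rfl⟩ := dec a ha
    have h1 := k.class_two hr.1 hc.1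
    have h3 := z1 _ h1 (mul_mem (mul_mem (mul_mem hr.2 hc.2) (inv_mem hr.2)) (inv_mem hc.2))
    have e1 : r * (u * c) * r⁻¹ * (u * c)⁻¹ = r * c * r⁻¹ * c⁻¹ := by
      calc _ = (r * u) * c * r⁻¹ * c⁻¹ * u⁻¹ := by group
        _ = u * (r * c * r⁻¹ * c⁻¹) * u⁻¹ := by rw [hu.2 r hr]; group
        _ = _ := by rw [h3 u (e.le hu.1)]; group
    rw [e1, two_cj h h2 e hg]
    exact ⟨hZ h1, cent_anti ((cj_le_of_mem_norm hO hg).trans e.le) h3⟩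
  -- `S` normalizes `E` and `S / E` is elementary abelian
  have tr : ∀ a ∈ Q, a * (t * a * t⁻¹) ∈ E := fun a ha => by
    have ha' := conj_mem_of_norm le_rfl k.snorm ha
    have hw := k.class_two (inv_mem ha') (inv_mem ha)
    obtain ⟨w, ew⟩ : ∃ w, w = (t * a * t⁻¹)⁻¹ * a⁻¹ * (t * a * t⁻¹)⁻¹⁻¹ * a⁻¹⁻¹ := ⟨_, rfl⟩
    rw [← ew] at hw
    have e1 : t * (a * (t * a * t⁻¹)) * t⁻¹ = a * (t * a * t⁻¹) * w := by
      calc _ = t * a * t⁻¹ * (t * t) * a * (t * t)⁻¹ := by group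
        _ = _ := by rw [t2, ew]; group
    have e2 : t * w * t⁻¹ = w := by
      calc _ = (t * t * a * (t * t)⁻¹)⁻¹ * (t * a * t⁻¹)⁻¹ * (t * t * a * (t * t)⁻¹) *
            (t * a * t⁻¹) := by rw [ew]; simp only [mul_assoc, mul_inv_rev, inv_inv, inv_mul_cancel_left]
        _ = w⁻¹ := by rw [t2, ew]; group
        _ = w := inv_eq_of_sq (z2 w hw)
    have e3 := k.ctr.trace hw (z2 w hw) e2
    have hv := k.ctr.conj_mem hw
    generalize y * w * y⁻¹ = v at e3 hv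
    have hv' := z2 _ (conj_mem_of_norm le_rfl k.ctr.snorm hv)
    have h1 : a * (t * a * t⁻¹) * v ∈ Q ⊓ 𝒞[t] := ⟨mul_mem (mul_mem ha ha') hv.1,
      mem_cent1.2 (mul_inv_eq_iff_eq_mul.1 (by
        calc t * (a * (t * a * t⁻¹) * v) * t⁻¹
            = t * (a * (t * a * t⁻¹)) * t⁻¹ * (t * v * t⁻¹) := by group
          _ = a * (t * a * t⁻¹) * v * (t * v * t⁻¹ * (t * v * t⁻¹)) := by rw [e1, e3]; group
          _ = _ := by rw [hv', mul_one])).symm⟩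
    simpa using mul_mem (hC h1) (inv_mem (hZ hv))
  have sqQ : ∀ a ∈ Q, a * a ∈ Q ⊓ 𝒞(Q) := fun a ha => ⟨mul_mem ha ha, fun b hb => by
    have hc := k.class_two ha hb
    obtain ⟨c, ec⟩ : ∃ c, c = a * b * a⁻¹ * b⁻¹ := ⟨_, rfl⟩
    rw [← ec] at hc
    have e1 : a * b = c * b * a := by rw [ec]; group
    calc b * (a * a) = (c * c) * b * (a * a) := by rw [z2 c hc, one_mul]
      _ = c * (c * b * a) * a := by group
      _ = (c * a) * (b * a) := by rw [← e1]; group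
      _ = a * (c * b * a) := by rw [← hc.2 a ha]; group
      _ = _ := by rw [← e1]; group⟩
  have nQ : Q ≤ 𝒩(E) := le_norm_iff.2 fun a ha b hb => by
    have c1 : ∀ b ∈ E, b ∈ Q → a * b * a⁻¹ ∈ E := fun b hb hb' => by
      simpa using mul_mem (hZ (k.class_two ha hb')) hb
    rcases hS b (e.le hb) with k' | k'
    · exact c1 b hb k'
    · have h1 := mul_mem (mul_mem (mul_mem (tr a ha) (hZ (conj_mem_of_norm le_rfl k.ctr.snorm
        (inv_mem (sqQ a ha))))) htE) (c1 _ (mul_mem (inv_mem htE) hb) k')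
      rwa [show a * (t * a * t⁻¹) * (t * (a * a)⁻¹ * t⁻¹) * t * (a * (t⁻¹ * b) * a⁻¹) =
        a * b * a⁻¹ by group] at h1
  have nS : S ⊓ 𝒩(E) = S := inf_eq_left.2 fun a ha => by
    rcases hS a ha with k' | k'
    · exact nQ k'
    · simpa using mul_mem (le_normalizer htE) (nQ k')
  have sqS : ∀ r ∈ S ⊓ 𝒩(E), r * r ∈ E := fun r hr => by
    rcases hS r hr.1 with k' | k'
    · exact hZ (sqQ r k')
    · have h1 := conj_mem_of_norm le_rfl (le_normalizer htE) (tr _ k')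
      rwa [show t * (t⁻¹ * r * (t * (t⁻¹ * r) * t⁻¹)) * t⁻¹ = r * r * (t * t)⁻¹ by group, t2, inv_one,
        mul_one] at h1
  have i4 : 4 ≤ E.relIndex (S ⊓ 𝒩(E)) := by
    rw [nS]
    have c1 := card_mul_relIndex h.le
    have c2 := card_mul_relIndex e.le
    have c3 := card_mul_relIndex hKE
    have c5 := (card_le_two_mul (H := Q ⊓ 𝒞[t]) i2 hKE
      (le_inf inf_le_right (inf_le_left.trans hKt))).trans
      (Nat.mul_le_mul_right 2 (card_le_of_le inf_le_right))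
    have c6 := k.card
    have c7 : Nat.card ↥(Q ⊓ 𝒞[t]) ≠ 4 := fun e4 => by
      have := Fact.mk pr2
      have ab := abelian_iff.1 (IsPGroup.isMulCommutative_of_card_eq_prime_sq (p := 2) e4)
      have h1 : Q ⊓ 𝒞[t] ≤ Q ⊓ 𝒞(Q) ⊓ 𝒞[t] := fun c hc => ⟨⟨hc.1, k.center hc.1 (ab hc)⟩, hc.2⟩
      have h3 := card_le_of_le h1
      have h4 := k.ctr.card
      nlinarith
    obtain ⟨n, hn⟩ := (isPi_of_isPGroup pr2 (h.two.to_le (inf_le_left : Q ⊓ 𝒞[t] ≤ Q))).exists_card_eq_pow pr2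
    rw [h2] at c1
    rw [iK] at c3
    have c8 : 8 ≤ Nat.card ↥(Q ⊓ 𝒞[t]) := by
      rw [c6, hn] at hq
      rw [hn] at c7 ⊢
      rcases n with _ | _ | _ | n
      · omega
      · omega
      · omega
      · calc 8 = 2 ^ 3 := rfl
          _ ≤ _ := Nat.pow_le_pow_right (by omega) (by omega)
    by_contra hlt
    have : E.relIndex S ≤ 3 := by omega
    nlinarith
  obtain ⟨g, hg, w, hw, h3⟩ := e.se3 sqS i4 r₀ ⟨h.le hr₀, hr1⟩ hr2
  exact hr3 g hg w hw h3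

end core

theorem Loc.concl_two [IsSimpleGroup G] (hG : ¬ IsMulCommutative G) (h : Loc Q S)
    (h2 : Q.relIndex S = 2) (hT : IsSylowOf 2 T ⊤) (hS : S ≤ T) : Concl G := by
  obtain ⟨u, hu, hu'⟩ := SetLike.exists_of_lt h.lt
  obtain ⟨a, ha, y, k⟩ := h.ft hu hu'
  have hs := mul_mem hu (h.le ha)
  have hT2 := hT.pi.isPGroup pr2
  by_cases hq : Nat.card Q ≤ 4
  · have h4 := k.om.four_le (om_ne_bot h.two h.ne)
    have e : om Q = Q := eq_of_le_of_card_ge (om_le Q) (hq.trans h4)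
    exact four_case hG h.no6 hT (h.le.trans hS) (le_antisymm hq (e ▸ h4))
      (fun a ha => (e.ge ha).2.2) (h.cent hT2 hS)
  have hN : 𝒩(S) ≤ 𝒩(Q) := fun g hg => by_contra fun hg' => hq (k.swap h.ne h.le hs h2 hg hg')
  obtain rfl : S = T := eq_of_inf_norm_le_of_nilpotent hT.pi.nilpotent hS
    ((inf_le_inf_left T hN).trans (h.eq_inf hT2 hS).le)
  obtain ⟨P, rfl⟩ := exists_sylow_of_top pr2 hT
  have := Fact.mk pr2
  rcases S0111.result P Q h.le h2 (u * a) (orderOf_eq_prime (by rw [sq, k.sq])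
    fun e => k.not_mem (e ▸ one_mem _)) hs k.not_mem with ⟨M, -, hM, -⟩ | ⟨g, hg⟩
  · exact absurd hM (simple_index_ne_two hG M)
  obtain ⟨E, x, b, e, hx, hb, hb', hc, hxb⟩ := fus_ind hT h.le hN hs k.not_mem hg
  obtain ⟨c, rfl⟩ := isConj_iff.1 hc
  obtain ⟨h4, hsq⟩ := two_core h h2 e hq hx hb hb' (conj_sq k.sq c) hxb
  exact four_case hG h.no6 hT e.le h4 hsq e.cen

end Cfsg.Agent.NO6
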